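import Mathlib
import Cfsg.Agent.H317.PQ.Defs
import Cfsg.Agent.H329.PQ.MF

/-!
# S4612, the row of `PSL_n`: definitions (helper355)

* `inv k g` : the number of the `g`-invariant subspaces of dimension `k`;
* `Gr F V k` : the set of the subspaces of dimension `k`, with the action of `SL(V)`;
* `Chain F V χ` : the irreducible characters `χ 0, χ 1, ...` with `inv k = χ 0 + ... + χ k` (`2 k ≤ dim V`);
* `Sp K w V = K ^ w × V` and `el c A` : the map `(x, y) ↦ (c x, A y)`;
* `Dat F K p e ζ` : `K` is an extension of degree `e` of the finite field `F`, generated by `ζ` of prime order `p`.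
-/

set_option autoImplicit false

open Cfsg Module

namespace Cfsg.Agent.H355.PQ

open Cfsg.Agent.H317.PQ Cfsg.Agent.H329.PQ

universe u v

section Gr

variable (F : Type u) [Field F] (V : Type v) [AddCommGroup V] [Module F V]

/-- the subspaces of dimension `k` -/
def Gr (k : ℕ) : Type v := {W : Submodule F V // finrank F W = k}

instance (k : ℕ) : MulAction (SpecialLinearGroup F V) (Gr F V k) where
  smul g W := ⟨W.1.map (g.1 : V →ₗ[F] V), (LinearEquiv.finrank_map_eq g.1 W.1).trans W.2⟩
  one_smul W := Subtype.ext (Submodule.map_id W.1)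
  mul_smul g h W := Subtype.ext (Submodule.map_comp (h.1 : V →ₗ[F] V) (g.1 : V →ₗ[F] V) W.1)

variable {F V}

theorem coe_smul_Gr {k : ℕ} (g : SpecialLinearGroup F V) (W : Gr F V k) :
    (g • W).1 = W.1.map (g.1 : V →ₗ[F] V) := rfl

/-- the number of the invariant subspaces of dimension `k` -/
noncomputable def inv (k : ℕ) (g : V →ₗ[F] V) : ℕ :=
  Nat.card {W : Submodule F V // finrank F W = k ∧ W.map g = W}

theorem card_fixedBy_Gr {k : ℕ} (g : SpecialLinearGroup F V) :
    Nat.card (MulAction.fixedBy (Gr F V k) g) = inv k (g.1 : V →ₗ[F] V) := by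
  refine Nat.card_congr ⟨fun W => ⟨W.1.1, W.1.2, congrArg Subtype.val W.2⟩,
    fun W => ⟨⟨W.1, W.2.1⟩, Subtype.ext W.2.2⟩, fun _ => rfl, fun _ => rfl⟩

instance [Finite F] [FiniteDimensional F V] (k : ℕ) : Finite (Gr F V k) := by
  have : Finite V := Module.finite_of_finite F
  unfold Gr
  infer_instance

/-- the chain of the unipotent characters with two rows -/
structure Chain (F : Type u) [Field F] (V : Type v) [AddCommGroup V] [Module F V]
    (χ : ℕ → IrrCharacter (SpecialLinearGroup F V)) : Prop where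
  inj : ∀ i j : ℕ, 2 * i ≤ finrank F V → 2 * j ≤ finrank F V → χ i = χ j → i = j
  sum : ∀ k : ℕ, 2 * k ≤ finrank F V → ∀ g : SpecialLinearGroup F V,
    (inv k (g.1 : V →ₗ[F] V) : ℂ) = ∑ i ∈ Finset.range (k + 1), (χ i : SpecialLinearGroup F V → ℂ) g

theorem Chain.mf {χ : ℕ → IrrCharacter (SpecialLinearGroup F V)} (h : Chain F V χ) {k : ℕ}
    (hk : 2 * k ≤ finrank F V) : MF (SpecialLinearGroup F V) (Gr F V k) (fun i : Fin (k + 1) => χ i) where
  inj i j hij := Fin.ext (h.inj i j (by omega) (by omega) hij)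
  sum g := by
    rw [card_fixedBy_Gr, h.sum k hk g, Finset.sum_range]

end Gr

section Sp

/-- `K ^ w × V` -/
abbrev Sp (K : Type u) (w : ℕ) (V : Type v) : Type (max u v) := (Fin w → K) × V

variable {F : Type u} [Field F] {K : Type u} [Field K] [Algebra F K] {V : Type v} [AddCommGroup V] [Module F V]

/-- the map `(x, y) ↦ (c x, A y)` -/
def el {w : ℕ} (c : Kˣ) (A : V ≃ₗ[F] V) : Sp K w V ≃ₗ[F] Sp K w V :=
  (DistribMulAction.toLinearEquiv F (Fin w → K) c).prodCongr A

theorem el_apply {w : ℕ} (c : Kˣ) (A : V ≃ₗ[F] V) (v : Sp K w V) :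
    el c A v = (fun i => (c : K) * v.1 i, A v.2) := rfl

/-- the standing hypotheses: `K` is the field generated over the finite field `F` by an element `ζ` of prime order `p`,
of degree `e` -/
structure Dat (F : Type u) [Field F] (K : Type u) [Field K] [Algebra F K] (p e : ℕ) (ζ : Kˣ) : Prop where
  finF : Finite F
  finK : Finite K
  prime : p.Prime
  ord : orderOf ζ = p
  deg : finrank F K = e
  min : ∀ d : ℕ, p ∣ Nat.card F ^ d - 1 ↔ e ∣ d

end Sp

end Cfsg.Agent.H355.PQ
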