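import Cfsg.Agent.H355.PQ.Basic

/-!
# S4612, the row of `PSL_n`: `SL(V)` and `PSL_n(F)` (helper355)
-/

set_option autoImplicit false
set_option linter.unusedSectionVars false

open Cfsg Module

namespace Cfsg.Agent.H355.PQ

open Cfsg.Agent.H317.PQ Cfsg.Agent.H329.PQ

universe u v w

variable {F : Type u} [Field F] {V : Type v} [AddCommGroup V] [Module F V] [FiniteDimensional F V]

theorem finite_SL [Finite F] : Finite (SpecialLinearGroup F V) := by
  have : Finite V := Module.finite_of_finite F
  exact Finite.of_injective (fun g : SpecialLinearGroup F V => fun v : V => g.1 v) fun g h hgh =>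
    Subtype.ext (LinearEquiv.ext fun v => congrFun hgh v)

/-- the map onto `PSL_n` -/
noncomputable def toPSL {n : ℕ} (hn : finrank F V = n) :
    SpecialLinearGroup F V →* Matrix.ProjectiveSpecialLinearGroup (Fin n) F :=
  (QuotientGroup.mk' (Subgroup.center (Matrix.SpecialLinearGroup (Fin n) F))).comp
    (Matrix.SpecialLinearGroup.toLin_equiv (finBasisOfFinrankEq F V hn)).symm.toMonoidHom

theorem toPSL_surjective {n : ℕ} (hn : finrank F V = n) : Function.Surjective (toPSL hn) :=
  (QuotientGroup.mk'_surjective _).comp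
    (Matrix.SpecialLinearGroup.toLin_equiv (finBasisOfFinrankEq F V hn)).symm.surjective

theorem ker_toPSL {n : ℕ} (hn : finrank F V = n) : (toPSL hn).ker ≤ Subgroup.center (SpecialLinearGroup F V) := by
  intro x hx
  have h1 : (Matrix.SpecialLinearGroup.toLin_equiv (finBasisOfFinrankEq F V hn)).symm x ∈
      Subgroup.center (Matrix.SpecialLinearGroup (Fin n) F) := (QuotientGroup.eq_one_iff _).1 hx
  exact (MulEquivClass.apply_mem_center_iff
    (Matrix.SpecialLinearGroup.toLin_equiv (finBasisOfFinrankEq F V hn)).symm).1 h1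

/-- the central elements are scalars -/
theorem exists_scalar {x : SpecialLinearGroup F V} (hx : x ∈ Subgroup.center (SpecialLinearGroup F V)) :
    ∃ r : F, ∀ v : V, x.1 v = r • v := by
  obtain ⟨r, -, hr⟩ := SpecialLinearGroup.mem_center_iff.1 hx
  exact ⟨r, fun v => by simpa using LinearMap.congr_fun hr v⟩

theorem exists_unit [Nontrivial V] {x : SpecialLinearGroup F V} (hx : x ∈ Subgroup.center (SpecialLinearGroup F V)) :
    ∃ r : Fˣ, ∀ v : V, x.1 v = r • v := by
  obtain ⟨r, hr⟩ := exists_scalar hx
  have h0 : r ≠ 0 := by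
    rintro rfl
    obtain ⟨v, hv⟩ := exists_ne (0 : V)
    have h1 := hr v
    rw [zero_smul] at h1
    exact hv (x.1.injective (by rw [h1, map_zero]))
  exact ⟨Units.mk0 r h0, hr⟩

theorem not_dvd_card_of_le_center [Finite F] {p : ℕ} (hp : p.Prime) (hpF : ¬ p ∣ Nat.card F - 1)
    {Z : Subgroup (SpecialLinearGroup F V)} (hZ : Z ≤ Subgroup.center _) : ¬ p ∣ Nat.card Z := by
  intro hdvd
  have : Fact p.Prime := ⟨hp⟩
  have : Finite (SpecialLinearGroup F V) := finite_SL
  obtain ⟨x, hx⟩ := exists_prime_orderOf_dvd_card' (G := Z) p hdvd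
  have hx1 : x ≠ 1 := by
    rintro rfl
    rw [orderOf_one] at hx
    exact hp.one_lt.ne hx
  have hntV : Nontrivial V := by
    by_contra h
    rw [not_nontrivial_iff_subsingleton] at h
    apply hx1
    apply Subtype.ext
    apply Subtype.ext
    exact LinearEquiv.ext fun v => Subsingleton.elim _ _
  obtain ⟨r, hr⟩ := exists_unit (hZ x.2)
  apply hpF
  have hpow : ∀ (k : ℕ) (v : V), ((x : SpecialLinearGroup F V) ^ k).1 v = r ^ k • v := by
    intro k
    induction k with
    | zero =>
      intro v
      rw [pow_zero, pow_zero, one_smul]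
      rfl
    | succ k ih =>
      intro v
      rw [pow_succ, pow_succ]
      change ((x : SpecialLinearGroup F V) ^ k).1 ((x : SpecialLinearGroup F V).1 v) = _
      rw [ih, hr, smul_smul]
  have h1 : r ^ p = 1 := by
    obtain ⟨v, hv⟩ := exists_ne (0 : V)
    have h2 := hpow p v
    have h3 : (x : SpecialLinearGroup F V) ^ p = 1 := by
      rw [← hx, ← Subgroup.coe_pow, pow_orderOf_eq_one]
      rfl
    rw [h3] at h2
    have h4 : v = r ^ p • v := h2
    have h5 : (((r ^ p : Fˣ) : F) - 1) • v = 0 := by
      rw [sub_smul, one_smul]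
      exact sub_eq_zero.2 h4.symm
    rcases smul_eq_zero.1 h5 with h6 | h6
    · exact Units.ext (sub_eq_zero.1 h6)
    · exact absurd h6 hv
  have h2 : r ≠ 1 := by
    rintro rfl
    apply hx1
    apply Subtype.ext
    apply Subtype.ext
    exact LinearEquiv.ext fun v => (hr v).trans (one_smul _ _)
  have h3 := orderOf_eq_prime h1 h2
  have h4 := orderOf_dvd_natCard r
  rwa [h3, Nat.card_units] at h4

end Cfsg.Agent.H355.PQ
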